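import Mathlib

namespace Groth.Agent.H8.AUDvr
open IsLocalRing
universe u

/-- A Noetherian local ring whose maximal ideal is generated by a nonzerodivisor is a domain. -/
theorem isDomain_of_maximalIdeal_eq_span (B : Type u) [CommRing B] [IsNoetherianRing B]
    [IsLocalRing B] (t : B) (ht : t ∈ nonZeroDivisors B) (hm : maximalIdeal B = Ideal.span {t}) :
    IsDomain B := by
  have hkrull : ⨅ n : ℕ, (maximalIdeal B) ^ n = ⊥ :=
    Ideal.iInf_pow_eq_bot_of_isLocalRing _ (Ideal.IsPrime.ne_top inferInstance)
  have hpow : ∀ n : ℕ, (maximalIdeal B) ^ n = Ideal.span {t ^ n} := fun n => by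
    rw [hm, Ideal.span_singleton_pow]
  -- every nonzero element is a unit times a power of `t`
  have key : ∀ x : B, x ≠ 0 → ∃ (n : ℕ) (u : B), IsUnit u ∧ x = u * t ^ n := by
    intro x hx
    have : ∃ n : ℕ, x ∉ (maximalIdeal B) ^ n := by
      by_contra hcon
      push Not at hcon
      apply hx
      have : x ∈ ⨅ n : ℕ, (maximalIdeal B) ^ n := by
        rw [Ideal.mem_iInf]; exact hcon
      rw [hkrull] at this
      simpa using this
    classical
    let n := Nat.find this
    have hn : x ∉ (maximalIdeal B) ^ n := Nat.find_spec this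
    have hn0 : n ≠ 0 := by
      intro h0
      rw [h0, pow_zero] at hn
      exact hn (by simp)
    obtain ⟨k, hk⟩ := Nat.exists_eq_succ_of_ne_zero hn0
    have hk' : x ∈ (maximalIdeal B) ^ k := by
      by_contra hcon
      have := Nat.find_min' this hcon
      omega
    rw [hpow, Ideal.mem_span_singleton'] at hk'
    obtain ⟨u, hu⟩ := hk'
    refine ⟨k, u, ?_, hu.symm⟩
    by_contra hnu
    have hum : u ∈ maximalIdeal B := (mem_maximalIdeal u).2 hnu
    rw [hm, Ideal.mem_span_singleton'] at hum
    obtain ⟨v, hv⟩ := hum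
    apply hn
    rw [hk, hpow, Ideal.mem_span_singleton']
    exact ⟨v, by rw [← hu, ← hv, pow_succ]; ring⟩
  haveI : NoZeroDivisors B := by
    constructor
    intro x y hxy
    by_contra hcon
    push Not at hcon
    obtain ⟨n, u, hu, rfl⟩ := key x hcon.1
    obtain ⟨m, v, hv, rfl⟩ := key y hcon.2
    have h1 : (u * v) * t ^ (n + m) = 0 := by rw [← hxy, pow_add]; ring
    have h2 : t ^ (n + m) = 0 := by
      have := (hu.mul hv).mul_right_eq_zero.1 h1
      exact this
    have h3 : t ^ (n + m) ∈ nonZeroDivisors B := pow_mem ht _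
    exact nonZeroDivisors.ne_zero h3 h2
  exact NoZeroDivisors.to_isDomain B

/-- A Noetherian local ring whose maximal ideal is generated by a nonzerodivisor is a DVR. -/
theorem isDVR_of_maximalIdeal_eq_span (B : Type u) [CommRing B] [IsNoetherianRing B]
    [IsLocalRing B] (t : B) (ht : t ∈ nonZeroDivisors B) (hm : maximalIdeal B = Ideal.span {t}) :
    ∃ _ : IsDomain B, IsDiscreteValuationRing B := by
  haveI := isDomain_of_maximalIdeal_eq_span B t ht hm
  refine ⟨inferInstance, ?_⟩
  have hnf : ¬ IsField B := by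
    intro hf
    have h0 : maximalIdeal B = ⊥ := IsLocalRing.isField_iff_maximalIdeal_eq.1 hf
    rw [hm, Ideal.span_singleton_eq_bot] at h0
    exact nonZeroDivisors.ne_zero ht h0
  have := (IsDiscreteValuationRing.TFAE B hnf).out 0 4
  rw [this]
  exact ⟨⟨t, hm⟩⟩

end Groth.Agent.H8.AUDvr
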