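import Mathlib
import Groth.Agent.Lib.Helper8.AUDvr.A1

namespace Groth.Agent.H8.AUDvr
open IsLocalRing
universe u

/-- If `S ⧸ I` is reduced (`I` radical) and `q = ann(x̄)` is an associated prime of `S ⧸ I`,
then `x ∉ q`, `q` is a minimal prime over `I`. -/
theorem assoc_of_radical {S : Type u} [CommRing S] (I : Ideal S) (hI : I.IsRadical)
    (q : Ideal S) (hq : q ∈ associatedPrimes S (S ⧸ I)) :
    ∃ x : S, x ∉ q ∧ (∀ y ∈ q, x * y ∈ I) ∧ I ≤ q := by
  obtain ⟨hqp, x', hx'⟩ := hq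
  obtain ⟨x, rfl⟩ := Ideal.Quotient.mk_surjective x'
  have hcol : ∀ y : S, y ∈ (⊥ : Submodule S (S ⧸ I)).colon {Ideal.Quotient.mk I x} ↔ y * x ∈ I := by
    intro y
    rw [Submodule.mem_colon_singleton, Submodule.mem_bot, ← Ideal.Quotient.eq_zero_iff_mem,
      map_mul]
    rfl
  have hmem : ∀ y : S, y ∈ q ↔ y * x ∈ I := by
    intro y
    rw [hx']
    constructor
    · rintro ⟨n, hn⟩
      rw [hcol] at hn
      apply hI
      refine ⟨n + 1, ?_⟩
      have : (y * x) ^ (n + 1) = (y ^ n * x) * (y * x ^ n) := by ring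
      rw [this]
      exact I.mul_mem_right _ hn
    · intro h
      exact Ideal.le_radical ((hcol y).2 h)
  refine ⟨x, ?_, ?_, ?_⟩
  · intro hxq
    have h1 : x * x ∈ I := (hmem x).1 hxq
    have h2 : x ∈ I := hI (by exact ⟨2, by rw [pow_two]; exact h1⟩)
    have : (1 : S) ∈ q := (hmem 1).2 (by simpa using h2)
    exact hqp.ne_top ((Ideal.eq_top_iff_one q).2 this)
  · intro y hy
    rw [mul_comm]; exact (hmem y).1 hy
  · intro y hy
    exact (hmem y).2 (I.mul_mem_right _ hy)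

end Groth.Agent.H8.AUDvr
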