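import Mathlib
import Groth.Agent.Lib.Helper8.AUDvr.A1
import Groth.Agent.Lib.Helper8.AUDvr.A2

namespace Groth.Agent.H8.AUDvr
open IsLocalRing
universe u

/-- Let `A → B` be a flat homomorphism of Noetherian rings, `p` a prime of `A` with `A_p` a DVR
and `B ⧸ pB` reduced. Then `B_q` is a DVR for every associated prime `q` of `B ⧸ pB`. -/
theorem isDVR_atPrime_of_assoc (A B : Type u) [CommRing A] [CommRing B] [Algebra A B]
    [IsNoetherianRing B] [Module.Flat A B] (p : Ideal A) [p.IsPrime]
    [IsDomain (Localization.AtPrime p)] [IsDiscreteValuationRing (Localization.AtPrime p)]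
    (hI : (p.map (algebraMap A B)).IsRadical) (q : Ideal B) [q.IsPrime]
    (hq : q ∈ associatedPrimes B (B ⧸ p.map (algebraMap A B))) :
    ∃ _ : IsDomain (Localization.AtPrime q), IsDiscreteValuationRing (Localization.AtPrime q) := by
  obtain ⟨x, hxq, hxy, hIq⟩ := assoc_of_radical _ hI q hq
  -- `q` is minimal over `pB`
  have hmin : ∀ Q : Ideal B, Q.IsPrime → p.map (algebraMap A B) ≤ Q → Q ≤ q → q ≤ Q := by
    intro Q hQ hIQ hQq y hy
    have h1 : x * y ∈ Q := hIQ (hxy y hy)
    rcases hQ.mem_or_mem h1 with h | h
    · exact absurd (hQq h) hxq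
    · exact h
  -- `q` lies over `p`
  have hple : p ≤ q.under A := by
    rw [Ideal.under_def, ← Ideal.map_le_iff_le_comap]; exact hIq
  have hpq : p = q.comap (algebraMap A B) := by
    haveI : Algebra.HasGoingDown A B := Algebra.HasGoingDown.of_flat
    haveI : q.LiesOver (q.under A) := ⟨rfl⟩
    obtain ⟨Q, hQq, hQ, hQp⟩ := Ideal.exists_ideal_le_liesOver_of_le (p := p) (q := q.under A) q hple
    have hIQ : p.map (algebraMap A B) ≤ Q := by
      rw [Ideal.map_le_iff_le_comap, ← Ideal.under_def, ← hQp.over]
    have : q = Q := le_antisymm (hmin Q hQ hIQ hQq) hQq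
    rw [this, ← Ideal.under_def, ← hQp.over]
  have hflat : (algebraMap A B).Flat := RingHom.flat_algebraMap_iff.2 inferInstance
  have hφflat := hflat.localRingHom q p hpq
  obtain ⟨t, ht⟩ := IsDiscreteValuationRing.exists_irreducible (Localization.AtPrime p)
  have htm : maximalIdeal (Localization.AtPrime p) = Ideal.span {t} := ht.maximalIdeal_eq
  have hcomp : (Localization.localRingHom p q (algebraMap A B) hpq).comp
      (algebraMap A (Localization.AtPrime p)) =
      (algebraMap B (Localization.AtPrime q)).comp (algebraMap A B) :=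
    RingHom.ext fun a => Localization.localRingHom_to_map _ _ _ hpq a
  have hqI : q.map (algebraMap B (Localization.AtPrime q)) =
      (p.map (algebraMap A B)).map (algebraMap B (Localization.AtPrime q)) := by
    refine le_antisymm ?_ (Ideal.map_mono hIq)
    rw [Ideal.map_le_iff_le_comap]
    intro y hy
    rw [Ideal.mem_comap]
    have hu : IsUnit (algebraMap B (Localization.AtPrime q) x) :=
      IsLocalization.map_units (Localization.AtPrime q) (⟨x, hxq⟩ : q.primeCompl)
    have h1 : algebraMap B (Localization.AtPrime q) (x * y) ∈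
        (p.map (algebraMap A B)).map (algebraMap B (Localization.AtPrime q)) :=
      Ideal.mem_map_of_mem _ (hxy y hy)
    rw [map_mul] at h1
    exact (Ideal.unit_mul_mem_iff_mem _ hu).1 h1
  have hmax : maximalIdeal (Localization.AtPrime q) =
      Ideal.span {Localization.localRingHom p q (algebraMap A B) hpq t} := by
    rw [← Localization.AtPrime.map_eq_maximalIdeal, hqI, Ideal.map_map, ← hcomp, ← Ideal.map_map,
      Localization.AtPrime.map_eq_maximalIdeal, htm, Ideal.map_span, Set.image_singleton]
  have hnzd : Localization.localRingHom p q (algebraMap A B) hpq t ∈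
      nonZeroDivisors (Localization.AtPrime q) := by
    algebraize [Localization.localRingHom p q (algebraMap A B) hpq]
    have hreg : IsSMulRegular (Localization.AtPrime p) t := by
      intro a b hab
      exact mul_left_cancel₀ ht.ne_zero hab
    have := IsSMulRegular.of_flat (S := Localization.AtPrime q) hreg
    rw [mem_nonZeroDivisors_iff_right]
    intro z hz
    apply this
    simp only [smul_eq_mul, mul_zero]
    rw [mul_comm]; exact hz
  haveI : IsNoetherianRing (Localization.AtPrime q) :=
    IsLocalization.isNoetherianRing q.primeCompl _ inferInstance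
  exact isDVR_of_maximalIdeal_eq_span _ _ hnzd hmax

end Groth.Agent.H8.AUDvr
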