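import Mathlib
import Groth.Agent.Lib.Helper8.AUDvr.A1

namespace Groth.Agent.H8.AUDvr
open IsLocalRing
universe u v

/-- Let `A → B` be a flat homomorphism, `B` Noetherian, `q` a prime of `B` over `p` with `A_p` a
DVR and `q B_q = p B_q` (in the form: every `y ∈ q` has `s y ∈ pB` with `s ∉ q`). Then `B_q` is a
DVR. -/
theorem isDVR_atPrime_of_flat (A : Type u) (B : Type v) [CommRing A] [CommRing B] [Algebra A B]
    [IsNoetherianRing B] [Module.Flat A B] (p : Ideal A) [p.IsPrime]
    [IsDomain (Localization.AtPrime p)] [IsDiscreteValuationRing (Localization.AtPrime p)]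
    (q : Ideal B) [q.IsPrime] (hpq : p = q.comap (algebraMap A B))
    (hxy : ∀ y ∈ q, ∃ s : B, s ∉ q ∧ s * y ∈ p.map (algebraMap A B)) :
    ∃ _ : IsDomain (Localization.AtPrime q), IsDiscreteValuationRing (Localization.AtPrime q) := by
  have hIq : p.map (algebraMap A B) ≤ q := by
    rw [Ideal.map_le_iff_le_comap, hpq]
  have hflat : (algebraMap A B).Flat := RingHom.flat_algebraMap_iff.2 inferInstance
  have hφflat := hflat.localRingHom q p hpq
  obtain ⟨t, ht⟩ := IsDiscreteValuationRing.exists_irreducible (Localization.AtPrime p)
  have htm : maximalIdeal (Localization.AtPrime p) = Ideal.span {t} := ht.maximalIdeal_eq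
  have hcomp : (Localization.localRingHom p q (algebraMap A B) hpq).comp
      (algebraMap A (Localization.AtPrime p)) =
      (algebraMap B (Localization.AtPrime q)).comp (algebraMap A B) :=
    RingHom.ext fun a => Localization.localRingHom_to_map _ _ _ hpq a
  have hqI : q.map (algebraMap B (Localization.AtPrime q)) =
      (p.map (algebraMap A B)).map (algebraMap B (Localization.AtPrime q)) := by
    refine le_antisymm ?_ (Ideal.map_mono hIq)
    rw [Ideal.map_le_iff_le_comap]
    intro y hy
    rw [Ideal.mem_comap]
    obtain ⟨x, hxq, hx⟩ := hxy y hy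
    have hu : IsUnit (algebraMap B (Localization.AtPrime q) x) :=
      IsLocalization.map_units (Localization.AtPrime q) (⟨x, hxq⟩ : q.primeCompl)
    have h1 : algebraMap B (Localization.AtPrime q) (x * y) ∈
        (p.map (algebraMap A B)).map (algebraMap B (Localization.AtPrime q)) :=
      Ideal.mem_map_of_mem _ hx
    rw [map_mul] at h1
    exact (Ideal.unit_mul_mem_iff_mem _ hu).1 h1
  have hmax : maximalIdeal (Localization.AtPrime q) =
      Ideal.span {Localization.localRingHom p q (algebraMap A B) hpq t} := by
    rw [← Localization.AtPrime.map_eq_maximalIdeal, hqI, Ideal.map_map, ← hcomp, ← Ideal.map_map,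
      Localization.AtPrime.map_eq_maximalIdeal, htm, Ideal.map_span, Set.image_singleton]
  have hnzd : Localization.localRingHom p q (algebraMap A B) hpq t ∈
      nonZeroDivisors (Localization.AtPrime q) := by
    algebraize [Localization.localRingHom p q (algebraMap A B) hpq]
    have hreg : IsSMulRegular (Localization.AtPrime p) t := by
      intro a b hab
      exact mul_left_cancel₀ ht.ne_zero hab
    have := IsSMulRegular.of_flat (S := Localization.AtPrime q) hreg
    rw [mem_nonZeroDivisors_iff_right]
    intro z hz
    apply this
    simp only [smul_eq_mul, mul_zero]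
    rw [mul_comm]; exact hz
  haveI : IsNoetherianRing (Localization.AtPrime q) :=
    IsLocalization.isNoetherianRing q.primeCompl _ inferInstance
  exact isDVR_of_maximalIdeal_eq_span _ _ hnzd hmax

end Groth.Agent.H8.AUDvr
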